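import Cfsg.Agent.H865.L5.Base
import Cfsg.Agent.H866.L5.St

/-!
# X1 of S5924 : the Steinberg presentation of `SL₃(5)` (helper866)
-/

set_option autoImplicit false

namespace Cfsg.Agent.H866.L5

open Cfsg.Agent.H865.L5
open scoped commutatorElement

/-- X1 : the Steinberg presentation of `SL₃(5)` -/
theorem of_steinberg {G : Type*} [Group G] (x : Fin 3 → Fin 3 → G) (h1 : ∀ i j, i ≠ j → x i j ^ 5 = 1)
    (h2 : ∀ i j l, i ≠ j → j ≠ l → i ≠ l → ⁅x i j, x j l⁆ = x i l)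
    (h3 : ∀ i j l m, i ≠ j → l ≠ m → j ≠ l → i ≠ m → ⁅x i j, x l m⁆ = 1) (h4 : x 0 1 ≠ 1) :
    ∃ f : SL35 →* G, Function.Injective f :=
  of_steinberg' x h1 h2 h3 h4

end Cfsg.Agent.H866.L5
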